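import Cfsg.Agent.H672.OZ.Sieve
import Cfsg.Agent.H593.OZ.Invol
import Cfsg.Agent.H961.SepFi23
import Cfsg.Agent.H730.OZ.Asm

/-!
# One vanishing class: `Fi23` (helper328, for S4842)

The primes 17, 23 are isolated; the degree is `± 1` modulo 13 (`mod_of_invol`: the centralizer of an element of order 13
and a transposition has order 26; T4 if `13 < |C(x)|`); the sieve with T4 leaves no degree.
-/

set_option autoImplicit false
set_option maxRecDepth 100000
set_option linter.constructorNameAsVariable false

open Cfsg Subgroup Cfsg.Agent.Characters Cfsg.Agent.H732.VZ Cfsg.Agent.H604.OZ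

namespace Cfsg.Agent.H328.OZ.Fi23

open Cfsg.Agent.Lib.PermNet Cfsg.Agent.Fischer.Fi23Hom Cfsg.Agent.LThreeFi23
open Cfsg.Agent.H839 Cfsg.Agent.H839.Fi23
open Cfsg.Agent.H838.Fi23 (SL el_mem)

universe u

abbrev G : Type := Cfsg.Spor.Fi23

theorem card : Nat.card G = 4089470473293004800 := Cfsg.Agent.S1697.result.2

theorem orderOf_y13 : orderOf (elw y13) = 13 := by
  have := card_y13
  rwa [Nat.card_zpowers] at this

theorem cent_zpowers (x : G) : centralizer ((zpowers x : Subgroup G) : Set G) = centralizer ({x} : Set G) :=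
  Cfsg.Agent.H904.SylOne.centralizer_zpowers_eq x

theorem card_cent_y13 : Nat.card (centralizer ({elw y13} : Set G)) = 78 := by
  have h := (H961.SepFi23.data13 card_y13).1
  rwa [cent_zpowers] at h

theorem mem_S3 {l : Lt} (h : l ∈ L3) : el l ∈ SL L3 := el_mem h

/-- the centralizer of an element of order 13 and of a transposition -/
theorem card_inf : Nat.card (centralizer ({elw y13} : Set G) ⊓ centralizer ({el .z} : Set G) : Subgroup G) ≤ 2 * 13 := by
  have hle : centralizer ({elw y13} : Set G) ⊓ centralizer ({el .z} : Set G) ≤ centralizer ({elw y13} : Set G) :=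
    inf_le_left
  have h1 := Subgroup.card_dvd_of_le hle
  rw [card_cent_y13] at h1
  have hz : el .z ∈ SL L3 := mem_S3 (by simp [L3])
  have hj : el .j ∈ SL L3 := mem_S3 (by simp [L3])
  -- 2 and 13 divide the order
  have h2 : 2 ∣ Nat.card (centralizer ({elw y13} : Set G) ⊓ centralizer ({el .z} : Set G) : Subgroup G) := by
    have h3 : el .z ∈ centralizer ({elw y13} : Set G) ⊓ centralizer ({el .z} : Set G) :=
      ⟨mem_centralizer_singleton_iff.2 (S3_comm_y13 hz).symm, mem_centralizer_singleton_iff.2 rfl⟩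
    have h4 := Subgroup.orderOf_dvd_natCard _ h3
    have h5 := card_z
    rw [Nat.card_zpowers] at h5
    rwa [h5] at h4
  have h13 : 13 ∣ Nat.card (centralizer ({elw y13} : Set G) ⊓ centralizer ({el .z} : Set G) : Subgroup G) := by
    have h3 : elw y13 ∈ centralizer ({elw y13} : Set G) ⊓ centralizer ({el .z} : Set G) :=
      ⟨mem_centralizer_singleton_iff.2 rfl, mem_centralizer_singleton_iff.2 (S3_comm_y13 hz)⟩
    have h4 := Subgroup.orderOf_dvd_natCard _ h3
    rwa [orderOf_y13] at h4
  have h26 : 26 ∣ Nat.card (centralizer ({elw y13} : Set G) ⊓ centralizer ({el .z} : Set G) : Subgroup G) :=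
    Nat.Coprime.mul_dvd_of_dvd_of_dvd (by norm_num) h2 h13
  have hne : Nat.card (centralizer ({elw y13} : Set G) ⊓ centralizer ({el .z} : Set G) : Subgroup G) ≠ 78 := by
    intro h
    have h3 := Subgroup.eq_of_le_of_card_ge hle (by rw [h, card_cent_y13])
    have h4 : el .j ∈ centralizer ({elw y13} : Set G) := mem_centralizer_singleton_iff.2 (S3_comm_y13 hj).symm
    rw [← h3] at h4
    have h5 : el .j * el .z = el .z * el .j := mem_centralizer_singleton_iff.1 h4.2
    have h6 := (fix_pt_iff (el .z) .j).2 h5.symm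
    have h7 := m_0
    rw [ptw_eq, elw_one, show rho (el .z) 8006 = 8006 from h6, Nat.beq_refl] at h7
    exact Bool.noConfusion h7
  obtain ⟨k, hk⟩ := h26
  rw [hk] at h1 hne ⊢
  have h5 : k ∣ 3 := Nat.dvd_of_mul_dvd_mul_left (by norm_num : 0 < 26) (by simpa using h1)
  rcases (Nat.dvd_prime (by norm_num)).1 h5 with rfl | rfl
  · norm_num
  · exact absurd rfl hne

theorem row_fi23' [Finite G] : H730.OZ.Row G := by
  have hN : Nat.card G = 4089470473293004800 := card
  have hs : IsSimpleGroup G := Cfsg.Agent.S1697.result.1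
  refine row_of fun χ x h => ?_
  have h4 : 4 ≤ cent x := four_le_cent h (by rw [hN]; norm_num) (by rw [hN]; norm_num)
  have hsq : ¬ 13 ^ 2 ∣ Nat.card G := by rw [hN]; norm_num
  have hx : ¬ 13 ∣ orderOf x := by
    rcases Nat.lt_or_ge 13 (cent x) with h1 | h1
    · exact H733.OZ.not_dvd_orderOf h (r := 13) (n := 1) (by norm_num) (by rw [hN]; norm_num) (by rw [hN]; norm_num)
        (by rw [pow_one]; exact h1)
    · exact H849.OZ.not_dvd_of_le (by norm_num) hsq orderOf_y13 (by rw [card_cent_y13]; norm_num) h1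
  have h13 := H593.OZ.mod_of_invol (z := elw y13) (t := el .z) (p := 13) (by norm_num) (by norm_num) hsq
    (by rw [hN]; norm_num) orderOf_y13
    (by have h5 := card_z; rwa [Nat.card_zpowers] at h5) (S3_comm_y13 (mem_S3 (by simp [L3]))) card_inf h hx h4
  have hiso : ∀ r ∈ [17, 23, 13], charDegree (χ : G → ℂ) % r = 0 ∨
      charDegree (χ : G → ℂ) % r = 1 ∨ charDegree (χ : G → ℂ) % r = r - 1 := by
    intro r hr
    simp only [List.mem_cons, List.not_mem_nil, or_false] at hr
    rcases hr with rfl | rfl | rfl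
    · refine H672.OZ.iso_mod h (by norm_num) (by norm_num) (by rw [hN]; norm_num) (by rw [hN]; norm_num)
        (by rw [hN]; norm_num) (fun y hy => ?_) h4
      have h5 := (H961.SepFi23.data17 (R := zpowers y) (by rw [Nat.card_zpowers, hy])).1
      rwa [cent_zpowers] at h5
    · refine H672.OZ.iso_mod h (by norm_num) (by norm_num) (by rw [hN]; norm_num) (by rw [hN]; norm_num)
        (by rw [hN]; norm_num) (fun y hy => ?_) h4
      have h5 := (H961.SepFi23.data23 (R := zpowers y) (by rw [Nat.card_zpowers, hy])).1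
      rwa [cent_zpowers] at h5
    · exact Or.inr h13
  have hm := H672.OZ.mem_of_sieve4 h hN (l := [(2,18),(3,13),(5,2),(7,1),(11,1),(13,1),(17,1),(23,1)])
    (by decide +kernel)
    (by
      intro x hx
      simp only [List.mem_cons, List.not_mem_nil, or_false] at hx
      rcases hx with rfl | rfl | rfl | rfl | rfl | rfl | rfl | rfl <;> norm_num)
    (by decide +kernel) h4 hiso (D := []) (by decide +kernel)
  exact List.not_mem_nil hm

/-- **`Fi23`.** -/
theorem row_fi23 {S : Type u} [Group S] [Finite S] (_hs : IsSimpleGroup S) (h : Spor.IsoFi23 S) : H730.OZ.Row S := by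
  obtain ⟨e⟩ := h
  have hfin : Finite G := Finite.of_equiv _ e.toEquiv
  exact H730.OZ.Row.congr e row_fi23'

end Cfsg.Agent.H328.OZ.Fi23
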