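import Cfsg.Agent.H672.OZ.Sieve
import Cfsg.Agent.H732.VZ.Exc
import Cfsg.Agent.H730.OZ.Asm
import Cfsg.Agent.MinSimple.SelfCentFour

/-!
# One vanishing class: simple groups of order `2^9 3^9 5 7 13` (helper328, S4842)

`row_nine`: the elements of order 13 and 7 leave the degrees 27, 729, 64, 1728. Burnside's theorem excludes the first
three. For 1728 the zero `x` has `|C(x)| ≤ 5`: it is a 2-element or a 5-element; if there is an involution `t` with
`|G : C(t)|` prime to 10 then `|C(x)| = 4`, the Sylow 2-subgroup has commutator index four, a cyclic subgroup of index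
two, and `G` has no elementary abelian subgroup of order eight.
-/

set_option autoImplicit false
set_option maxRecDepth 100000

open Cfsg Cfsg.Agent.Characters Cfsg.Agent.H732.VZ Cfsg.Agent.H604.OZ

namespace Cfsg.Agent.H328.OZ.Nine

universe u

/-! ### group theory -/

section gen

variable {G : Type u} [Group G]

theorem mem_cent {g z : G} : g ∈ Subgroup.centralizer ({z} : Set G) ↔ g * z = z * g :=
  Subgroup.mem_centralizer_singleton_iff

/-- a `p`-element is conjugate into a subgroup of index prime to `p` -/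
theorem exists_conj_mem [Finite G] {p : ℕ} (hp : p.Prime) {M : Subgroup G} (hM : ¬ p ∣ M.index) {x : G} {k : ℕ}
    (hx : x ^ p ^ k = 1) : ∃ y ∈ M, IsConj x y := by
  have : Fact p.Prime := ⟨hp⟩
  have hP : IsPGroup p (Subgroup.zpowers x) := by
    intro g
    obtain ⟨n, hn⟩ := Subgroup.mem_zpowers_iff.1 g.2
    refine ⟨k, ?_⟩
    apply Subtype.ext
    change (g : G) ^ p ^ k = 1
    rw [← hn, ← zpow_natCast, ← zpow_mul, mul_comm, zpow_mul, zpow_natCast, hx, one_zpow]
  have hfin : Finite (G ⧸ M) := inferInstance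
  have h1 := hP.nonempty_fixed_point_of_prime_not_dvd_card (G ⧸ M) (by rwa [← Subgroup.index_eq_card])
  obtain ⟨q, hq⟩ := h1
  obtain ⟨g, rfl⟩ := QuotientGroup.mk_surjective q
  have h2 := hq ⟨x, Subgroup.mem_zpowers x⟩
  have h3 : (QuotientGroup.mk (x * g) : G ⧸ M) = QuotientGroup.mk g := h2
  rw [eq_comm, QuotientGroup.eq] at h3
  refine ⟨_, h3, isConj_iff.2 ⟨g⁻¹, ?_⟩⟩
  group

/-- the index of the commutator subgroup is at most the order of a centralizer -/
theorem index_commutator_le [Finite G] (x : G) :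
    (commutator G).index ≤ Nat.card (Subgroup.centralizer ({x} : Set G)) := by
  have hmem : ∀ g : G, g * x * g⁻¹ * x⁻¹ ∈ commutator G := fun g =>
    Subgroup.commutator_mem_commutator (Subgroup.mem_top g) (Subgroup.mem_top x)
  let f : G ⧸ Subgroup.centralizer ({x} : Set G) → ↥(commutator G) := fun q =>
    Quotient.liftOn' q (fun g => ⟨g * x * g⁻¹ * x⁻¹, hmem g⟩) (by
      intro a b hab
      have h1 : a⁻¹ * b ∈ Subgroup.centralizer ({x} : Set G) := QuotientGroup.leftRel_apply.1 hab
      have h2 := mem_cent.1 h1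
      apply Subtype.ext
      change a * x * a⁻¹ * x⁻¹ = b * x * b⁻¹ * x⁻¹
      have h3 : a * x * a⁻¹ = b * x * b⁻¹ := by
        calc a * x * a⁻¹ = a * (x * (a⁻¹ * b)) * b⁻¹ := by group
          _ = a * (a⁻¹ * b * x) * b⁻¹ := by rw [h2]
          _ = b * x * b⁻¹ := by group
      rw [h3])
  have hf : Function.Injective f := by
    intro p q hpq
    obtain ⟨a, rfl⟩ := QuotientGroup.mk_surjective p
    obtain ⟨b, rfl⟩ := QuotientGroup.mk_surjective q
    have h1 : a * x * a⁻¹ * x⁻¹ = b * x * b⁻¹ * x⁻¹ := congrArg Subtype.val hpq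
    have h3 : a * x * a⁻¹ = b * x * b⁻¹ := mul_right_cancel h1
    apply QuotientGroup.eq.2
    rw [mem_cent]
    calc a⁻¹ * b * x = a⁻¹ * (b * x * b⁻¹) * b := by group
      _ = a⁻¹ * (a * x * a⁻¹) * b := by rw [h3]
      _ = x * (a⁻¹ * b) := by group
  have h1 := Nat.card_le_card_of_injective f hf
  rw [← Subgroup.index_eq_card] at h1
  have h2 := Subgroup.card_mul_index (commutator G)
  have h3 := Subgroup.card_mul_index (Subgroup.centralizer ({x} : Set G))
  have h4 : 0 < Nat.card (commutator G) := Nat.card_pos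
  have h5 : 0 < (Subgroup.centralizer ({x} : Set G)).index := Nat.pos_of_ne_zero Subgroup.index_ne_zero_of_finite
  by_contra hlt
  push Not at hlt
  have h6 : Nat.card (Subgroup.centralizer ({x} : Set G)) * (Subgroup.centralizer ({x} : Set G)).index <
      (commutator G).index * (Subgroup.centralizer ({x} : Set G)).index := Nat.mul_lt_mul_of_pos_right hlt h5
  have h7 : (commutator G).index * (Subgroup.centralizer ({x} : Set G)).index ≤
      (commutator G).index * Nat.card (commutator G) := Nat.mul_le_mul_left _ h1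
  rw [h3, ← h2] at h6
  rw [mul_comm (commutator G).index (Nat.card (commutator G))] at h7
  omega

/-- three independent commuting involutions -/
def E8 (a b c : G) : Prop :=
  a * a = 1 ∧ b * b = 1 ∧ c * c = 1 ∧ a * b = b * a ∧ a * c = c * a ∧ b * c = c * b ∧ a ≠ 1 ∧ b ≠ 1 ∧ c ≠ 1 ∧
    a ≠ b ∧ a ≠ c ∧ b ≠ c ∧ c ≠ a * b

theorem E8.map {a b c : G} (h : E8 a b c) {H : Type*} [Group H] (f : G →* H) (hf : Function.Injective f) :
    E8 (f a) (f b) (f c) := by
  obtain ⟨h1, h2, h3, h4, h5, h6, h7, h8, h9, h10, h11, h12, h13⟩ := h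
  refine ⟨by rw [← map_mul, h1, map_one], by rw [← map_mul, h2, map_one], by rw [← map_mul, h3, map_one],
    by rw [← map_mul, h4, map_mul], by rw [← map_mul, h5, map_mul], by rw [← map_mul, h6, map_mul], ?_, ?_, ?_, ?_,
    ?_, ?_, ?_⟩
  · exact fun h => h7 (hf (by rw [h, map_one]))
  · exact fun h => h8 (hf (by rw [h, map_one]))
  · exact fun h => h9 (hf (by rw [h, map_one]))
  · exact fun h => h10 (hf h)
  · exact fun h => h11 (hf h)
  · exact fun h => h12 (hf h)
  · exact fun h => h13 (hf (by rw [h, map_mul]))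

/-- a cyclic group has at most one involution -/
theorem eq_of_cyclic [Finite G] (C : Subgroup G) [IsCyclic C] {a b : G} (ha : a ∈ C) (hb : b ∈ C) (haa : a * a = 1)
    (hbb : b * b = 1) (ha1 : a ≠ 1) (hb1 : b ≠ 1) : a = b := by
  classical
  by_contra hab
  have := Fintype.ofFinite C
  have h1 := IsCyclic.card_pow_eq_one_le (α := C) (n := 2) (by norm_num)
  have h2 : ({1, ⟨a, ha⟩, ⟨b, hb⟩} : Finset C) ⊆ Finset.univ.filter fun x : C => x ^ 2 = 1 := by
    intro x hx
    simp only [Finset.mem_insert, Finset.mem_singleton] at hx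
    rw [Finset.mem_filter]
    refine ⟨Finset.mem_univ _, ?_⟩
    rcases hx with rfl | rfl | rfl
    · exact one_pow 2
    · exact Subtype.ext (by rw [pow_two]; exact haa)
    · exact Subtype.ext (by rw [pow_two]; exact hbb)
  have h3 : ({1, ⟨a, ha⟩, ⟨b, hb⟩} : Finset C).card = 3 := by
    rw [Finset.card_insert_of_notMem, Finset.card_insert_of_notMem, Finset.card_singleton]
    · rw [Finset.mem_singleton]
      exact fun h => hab (congrArg Subtype.val h)
    · simp only [Finset.mem_insert, Finset.mem_singleton, not_or]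
      exact ⟨fun h => ha1 (congrArg Subtype.val h).symm, fun h => hb1 (congrArg Subtype.val h).symm⟩
  have h4 := Finset.card_le_card h2
  rw [h3] at h4
  omega

/-- no elementary abelian subgroup of order eight if there is a cyclic subgroup of index two -/
theorem no_E8_of_cyclic [Finite G] {C : Subgroup G} (hC : IsCyclic C) (h2 : C.index = 2) {a b c : G} (h : E8 a b c) :
    False := by
  obtain ⟨h1, h2', h3, h4, h5, h6, h7, h8, h9, h10, h11, h12, h13⟩ := h
  have hm : ∀ {u v : G}, u ∉ C → v ∉ C → u * v ∈ C := fun {u v} hu hv =>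
    (Subgroup.mul_mem_iff_of_index_two h2).2 ⟨fun h => absurd h hu, fun h => absurd h hv⟩
  have sq : ∀ {u v : G}, u * u = 1 → v * v = 1 → u * v = v * u → (u * v) * (u * v) = 1 := by
    intro u v hu hv huv
    calc (u * v) * (u * v) = u * (v * u) * v := by group
      _ = u * (u * v) * v := by rw [huv]
      _ = (u * u) * (v * v) := by group
      _ = 1 := by rw [hu, hv, one_mul]
  have ne : ∀ {u v : G}, v * v = 1 → u ≠ v → u * v ≠ 1 := by
    intro u v hv huv h
    apply huv
    calc u = u * v * v := by rw [mul_assoc, hv, mul_one]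
      _ = v := by rw [h, one_mul]
  by_cases ha : a ∈ C <;> by_cases hb : b ∈ C <;> by_cases hc : c ∈ C
  · exact h10 (eq_of_cyclic C ha hb h1 h2' h7 h8)
  · exact h10 (eq_of_cyclic C ha hb h1 h2' h7 h8)
  · exact h11 (eq_of_cyclic C ha hc h1 h3 h7 h9)
  · have h := eq_of_cyclic C (hm hb hc) ha (sq h2' h3 h6) h1 (ne h3 h12) h7
    apply h13
    calc c = b * b * c := by rw [h2', one_mul]
      _ = b * (b * c) := by group
      _ = b * a := by rw [h]
      _ = a * b := h4.symm
  · exact h12 (eq_of_cyclic C hb hc h2' h3 h8 h9)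
  · have h := eq_of_cyclic C (hm ha hc) hb (sq h1 h3 h5) h2' (ne h3 h11) h8
    apply h13
    calc c = a * a * c := by rw [h1, one_mul]
      _ = a * (a * c) := by group
      _ = a * b := by rw [h]
  · exact h13 (eq_of_cyclic C hc (hm ha hb) h3 (sq h1 h2' h4) h9 (ne h2' h10))
  · have h := eq_of_cyclic C (hm ha hb) (hm ha hc) (sq h1 h2' h4) (sq h1 h3 h5) (ne h2' h10) (ne h3 h11)
    exact h12 (mul_left_cancel h)

/-- the subgroup generated by commuting involutions -/
theorem isPGroup_closure {a b c : G} (h : E8 a b c) : IsPGroup 2 (Subgroup.closure ({a, b, c} : Set G)) := by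
  obtain ⟨h1, h2, h3, h4, h5, h6, -⟩ := h
  have hcomm : ∀ x ∈ ({a, b, c} : Set G), ∀ y ∈ ({a, b, c} : Set G), x * y = y * x := by
    intro x hx y hy
    simp only [Set.mem_insert_iff, Set.mem_singleton_iff] at hx hy
    rcases hx with rfl | rfl | rfl <;> rcases hy with rfl | rfl | rfl <;>
      first | rfl | assumption | (symm; assumption)
  have hco := (Subgroup.isMulCommutative_closure hcomm).is_comm.comm
  intro x
  refine ⟨1, ?_⟩
  rw [pow_one]
  obtain ⟨x, hx⟩ := x
  induction hx using Subgroup.closure_induction with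
  | mem x hx =>
    apply Subtype.ext
    simp only [Set.mem_insert_iff, Set.mem_singleton_iff] at hx
    change x ^ 2 = 1
    rw [pow_two]
    rcases hx with rfl | rfl | rfl
    · exact h1
    · exact h2
    · exact h3
  | one => exact Subtype.ext (one_pow 2)
  | mul x y hx hy hx2 hy2 =>
    have h7 : (⟨x * y, mul_mem hx hy⟩ : Subgroup.closure ({a, b, c} : Set G)) = ⟨x, hx⟩ * ⟨y, hy⟩ := rfl
    have h8 : (⟨x, hx⟩ : Subgroup.closure ({a, b, c} : Set G)) * ⟨y, hy⟩ = ⟨y, hy⟩ * ⟨x, hx⟩ := hco _ _
    rw [h7, Commute.mul_pow h8, hx2, hy2, mul_one]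
  | inv x hx hx2 =>
    have h7 : (⟨x⁻¹, inv_mem hx⟩ : Subgroup.closure ({a, b, c} : Set G)) = ⟨x, hx⟩⁻¹ := rfl
    rw [h7, inv_pow, hx2, inv_one]

/-- **a 2-element with centralizer of order at most four**: no elementary abelian subgroup of order eight -/
theorem no_E8 [Finite G] {x : G} {k : ℕ} (hx : x ^ 2 ^ k = 1)
    (hc : Nat.card (Subgroup.centralizer ({x} : Set G)) ≤ 4) (h8 : 8 ∣ Nat.card G) {a b c : G} (h : E8 a b c) : False := by
  have : Fact (Nat.Prime 2) := ⟨Nat.prime_two⟩
  have hP : IsPGroup 2 (Subgroup.zpowers x) := by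
    intro g
    obtain ⟨n, hn⟩ := Subgroup.mem_zpowers_iff.1 g.2
    refine ⟨k, ?_⟩
    apply Subtype.ext
    change (g : G) ^ 2 ^ k = 1
    rw [← hn, ← zpow_natCast, ← zpow_mul, mul_comm, zpow_mul, zpow_natCast, hx, one_zpow]
  obtain ⟨P, hxP⟩ := hP.exists_le_sylow
  have hx' : x ∈ (P : Subgroup G) := hxP (Subgroup.mem_zpowers x)
  have hcP : Nat.card (Subgroup.centralizer ({(⟨x, hx'⟩ : (P : Subgroup G))} : Set (P : Subgroup G))) ≤ 4 := by
    refine le_trans (Nat.card_le_card_of_injective
      (fun y : Subgroup.centralizer ({(⟨x, hx'⟩ : (P : Subgroup G))} : Set (P : Subgroup G)) =>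
        (⟨((y : (P : Subgroup G)) : G), mem_cent.2 (congrArg Subtype.val (mem_cent.1 y.2))⟩ :
          Subgroup.centralizer ({x} : Set G))) ?_) hc
    intro y y' hyy
    have h9 : ((y : (P : Subgroup G)) : G) = ((y' : (P : Subgroup G)) : G) := by
      have h10 := Subtype.ext_iff.1 hyy
      exact h10
    exact Subtype.ext (Subtype.ext h9)
  have hi := (index_commutator_le (⟨x, hx'⟩ : (P : Subgroup G))).trans hcP
  -- the order of `P`
  have hcard : 8 ∣ Nat.card (P : Subgroup G) := by
    have h1 := P.card_eq_multiplicity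
    rw [h1]
    exact (Nat.Prime.pow_dvd_iff_dvd_ordProj Nat.prime_two Nat.card_pos.ne' (k := 3)).1 h8
  obtain ⟨n, hn⟩ := IsPGroup.iff_card.1 P.2
  have hna : ¬ ∀ u v : (P : Subgroup G), u * v = v * u := by
    intro hcomm
    have h1 : Subgroup.centralizer ({(⟨x, hx'⟩ : (P : Subgroup G))} : Set (P : Subgroup G)) = ⊤ := by
      rw [eq_top_iff]
      intro g _
      rw [mem_cent]
      exact hcomm _ _
    rw [h1, Nat.card_congr Subgroup.topEquiv.toEquiv] at hcP
    have := Nat.le_of_dvd Nat.card_pos hcard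
    omega
  have h4 := MinSimple.SelfCentFour.four_le_index P.2 hna
  obtain ⟨C, hC, hC2⟩ := Transfer.TausskyTwoGroup.exists_isCyclic_index_two n hn (by omega)
  -- the elementary abelian group in `P`
  obtain ⟨Q, hQ⟩ := (isPGroup_closure h).exists_le_sylow
  obtain ⟨g, hg⟩ := MulAction.exists_smul_eq G Q P
  have hmem : ∀ y ∈ Subgroup.closure ({a, b, c} : Set G), g * y * g⁻¹ ∈ (P : Subgroup G) := by
    intro y hy
    rw [← hg, Sylow.coe_subgroup_smul]
    exact Subgroup.smul_mem_pointwise_smul y (MulAut.conj g) (Q : Subgroup G) (hQ hy)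
  have ha : g * a * g⁻¹ ∈ (P : Subgroup G) := hmem a (Subgroup.subset_closure (by simp))
  have hb : g * b * g⁻¹ ∈ (P : Subgroup G) := hmem b (Subgroup.subset_closure (by simp))
  have hcc : g * c * g⁻¹ ∈ (P : Subgroup G) := hmem c (Subgroup.subset_closure (by simp))
  have h5 : E8 (g * a * g⁻¹) (g * b * g⁻¹) (g * c * g⁻¹) :=
    h.map (MulAut.conj g).toMonoidHom (MulAut.conj g).injective
  have h6 : E8 (⟨_, ha⟩ : (P : Subgroup G)) ⟨_, hb⟩ ⟨_, hcc⟩ := by
    obtain ⟨h1, h2, h3, h4, h5, h6, h7, h8, h9, h10, h11, h12, h13⟩ := h5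
    refine ⟨Subtype.ext h1, Subtype.ext h2, Subtype.ext h3, Subtype.ext h4, Subtype.ext h5, Subtype.ext h6,
      fun h => h7 (congrArg Subtype.val h), fun h => h8 (congrArg Subtype.val h), fun h => h9 (congrArg Subtype.val h),
      fun h => h10 (congrArg Subtype.val h), fun h => h11 (congrArg Subtype.val h),
      fun h => h12 (congrArg Subtype.val h), fun h => h13 (congrArg Subtype.val h)⟩
  exact no_E8_of_cyclic hC hC2 h6

end gen

/-! ### the row -/

theorem val_N : Cfsg.Agent.H417.Divs.val [(2, 9), (3, 9), (5, 1), (7, 1), (13, 1)] = 4585351680 := by decide +kernel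

/-- **Simple groups of order `2^9 3^9 5 7 13`.** -/
theorem row_nine {G : Type u} [Group G] [Finite G] [IsSimpleGroup G] (hN : Nat.card G = 4585351680) {z7 z13 t : G}
    (hz7 : orderOf z7 = 7) (hc7 : Nat.card (Subgroup.centralizer ({z7} : Set G)) = 14)
    (hz13 : orderOf z13 = 13) (hc13 : Nat.card (Subgroup.centralizer ({z13} : Set G)) ≤ 13)
    (ht1 : t ≠ 1) (htt : t * t = 1) (hct : Nat.card (Subgroup.centralizer ({t} : Set G)) = 13063680)
    {a b c : G} (hE : E8 a b c) : H730.OZ.Row G := by
  refine row_of fun χ x h => ?_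
  have hna : ¬ IsMulCommutative G := by
    intro h
    have h2 : Subgroup.centralizer ({z7} : Set G) = ⊤ := by
      rw [eq_top_iff]
      intro g _
      rw [mem_cent]
      exact h.is_comm.comm g z7
    rw [h2, Nat.card_congr Subgroup.topEquiv.toEquiv, hN] at hc7
    omega
  have hti : (Subgroup.centralizer ({t} : Set G)).index = 351 := by
    have h1 := Subgroup.card_mul_index (Subgroup.centralizer ({t} : Set G))
    rw [hct, hN] at h1
    omega
  have h4 : 4 ≤ cent x := four_le_cent h (by rw [hN]; norm_num) (by rw [hN]; norm_num)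
  have hiso : ∀ r ∈ [7, 13], charDegree (χ : G → ℂ) % r = 0 ∨
      charDegree (χ : G → ℂ) % r = 1 ∨ charDegree (χ : G → ℂ) % r = r - 1 := by
    intro r hr
    simp only [List.mem_cons, List.not_mem_nil, or_false] at hr
    rcases hr with rfl | rfl
    · exact Or.inr (H672.OZ.two_mod_of h (by norm_num) le_rfl (by rw [hN]; norm_num) (by rw [hN]; norm_num)
        (by rw [hN]; norm_num) hz7 hc7 h4)
    · exact H672.OZ.iso_mod_of h (by norm_num) (by norm_num) (by rw [hN]; norm_num) (by rw [hN]; norm_num) hz13 hc13 h4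
  have hm := H672.OZ.mem_of_sieve4 h hN val_N
    (by
      intro x hx
      simp only [List.mem_cons, List.not_mem_nil, or_false] at hx
      rcases hx with rfl | rfl | rfl | rfl | rfl <;> norm_num)
    (by decide +kernel) h4 hiso (D := [27, 729, 64, 1728]) (by decide +kernel)
  have := Fintype.ofFinite G
  -- Burnside at 3
  have burn3 : ∀ k : ℕ, charDegree (χ : G → ℂ) = 3 ^ k → 3 ^ 9 ≤ cent x := by
    intro k hk
    obtain ⟨g, hg, hgi⟩ := exists_central (G := G) (r := 3) Nat.prime_three (by rw [hN]; norm_num)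
    have hg1 : g ≠ 1 := by
      rintro rfl
      rw [orderOf_one] at hg
      omega
    have h0 := eq_zero_of_coprime hna χ h.zero hg1 (by
      rw [hk]
      exact ((Nat.Prime.coprime_iff_not_dvd Nat.prime_three).2 hgi).symm.pow_right k)
    have hcon := h.uniq g h0
    rw [H672.OZ.cent_eq_of_conj hcon]
    refine Nat.le_of_dvd Nat.card_pos ?_
    have h5 := Subgroup.card_mul_index (Subgroup.centralizer ({g} : Set G))
    refine (Nat.Coprime.pow_left 9 ((Nat.Prime.coprime_iff_not_dvd Nat.prime_three).2 hgi)).dvd_of_dvd_mul_right ?_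
    rw [h5, hN]
    norm_num
  simp only [List.mem_cons, List.not_mem_nil, or_false] at hm
  rcases hm with hd | hd | hd | hd
  · have h5 := H672.OZ.cent_le_of h hN (r := 5) (n := 1) (by norm_num) hd (by norm_num) (by norm_num) (by norm_num)
    have h6 := burn3 3 hd
    norm_num at h5 h6
    omega
  · have h5 := H672.OZ.cent_le_of h hN (r := 2) (n := 9) (by norm_num) hd (by norm_num) (by norm_num) (by norm_num)
    have h6 := burn3 6 hd
    norm_num at h5 h6
    omega
  · have h5 := H672.OZ.cent_le_of h hN (r := 2) (n := 9) (by norm_num) hd (by norm_num) (by norm_num) (by norm_num)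
    have h0 := eq_zero_of_coprime hna χ h.zero ht1 (by rw [hd, hti]; norm_num)
    have h7 := H672.OZ.cent_eq_of_conj (h.uniq _ h0)
    change cent t = 13063680 at hct
    norm_num at h5
    omega
  · have h5 := H672.OZ.cent_le_of h hN (r := 5) (n := 1) (by norm_num) hd (by norm_num) (by norm_num) (by norm_num)
    rw [pow_one] at h5
    have h6 : x ^ cent x = 1 := by
      rw [← orderOf_dvd_iff_pow_eq_one]
      exact Subgroup.orderOf_dvd_natCard _ (mem_cent.2 rfl)
    rcases (by omega : cent x = 4 ∨ cent x = 5) with h7 | h7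
    · rw [h7] at h6
      exact no_E8 (k := 2) h6 (le_of_eq h7) (by rw [hN]; norm_num) hE
    · rw [h7] at h6
      obtain ⟨y, hy, hxy⟩ := exists_conj_mem (p := 5) (k := 1) (by norm_num) (M := Subgroup.centralizer ({t} : Set G))
        (by rw [hti]; norm_num) (by rw [pow_one]; exact h6)
      have h8 := H672.OZ.cent_eq_of_conj hxy
      have h9 : orderOf t = 2 := by
        have : Fact (Nat.Prime 2) := ⟨Nat.prime_two⟩
        exact orderOf_eq_prime (by rw [pow_two]; exact htt) ht1
      have h10 : orderOf t ∣ cent y := Subgroup.orderOf_dvd_natCard _ (mem_cent.2 (mem_cent.1 hy).symm)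
      rw [h9, ← h8, h7] at h10
      omega

end Cfsg.Agent.H328.OZ.Nine
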