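import Mathlib

/-!
# Isometries of order 7 and 13 in dimension seven over the field with three elements (helper328, S4842)

The form is `x₀² + ∑ xᵢ yᵢ`. `a7`, `a13`: isometries with a cyclic vector; `a7T`, `a13T`: the images of the cyclic vector
under commuting isometries (56 and 52 vectors); `ff`: a product of six reflections commuting with `a7`.
-/

set_option autoImplicit false
set_option maxRecDepth 100000

open Matrix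

namespace Cfsg.Agent.H328.OZ.SevenData

/-- the index type -/
abbrev I := Unit ⊕ (Fin 3 ⊕ Fin 3)

/-- the matrices -/
abbrev M7 := Matrix I I (ZMod 3)

/-- a vector -/
def vec (a b c d e f g : ZMod 3) : I → ZMod 3 := Sum.elim (fun _ => a) (Sum.elim ![b, c, d] ![e, f, g])

/-- a matrix from its rows -/
def mat (a b c d e f g : I → ZMod 3) : M7 := Matrix.of (Sum.elim (fun _ => a) (Sum.elim ![b, c, d] ![e, f, g]))

/-- the coordinates -/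
abbrev T7 : Type := ZMod 3 × ZMod 3 × ZMod 3 × ZMod 3 × ZMod 3 × ZMod 3 × ZMod 3

/-- the vector with given coordinates -/
def vec7 (a : T7) : I → ZMod 3 := vec a.1 a.2.1 a.2.2.1 a.2.2.2.1 a.2.2.2.2.1 a.2.2.2.2.2.1 a.2.2.2.2.2.2

/-- the coordinates of a vector -/
def co7 (b : I → ZMod 3) : T7 :=
  (b (.inl ()), b (.inr (.inl 0)), b (.inr (.inl 1)), b (.inr (.inl 2)), b (.inr (.inr 0)), b (.inr (.inr 1)),
    b (.inr (.inr 2)))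

theorem vec_co7 (b : I → ZMod 3) : vec7 (co7 b) = b := by
  funext i
  rcases i with ⟨⟩ | i | i
  · rfl
  · fin_cases i <;> rfl
  · fin_cases i <;> rfl

theorem co7_inj : Function.Injective co7 := fun a b h => by
  rw [← vec_co7 a, ← vec_co7 b, h]

/-- the sum over the residues -/
def sdS (g : ℕ → ℕ) : ℕ := g 0 + g 1 + g 2

theorem sdSum (g : ℕ → ℕ) : ∑ x : ZMod 3, g x.val = sdS g := Fin.sum_univ_three fun x : ZMod 3 => g x.val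

/-- the number of solutions of a condition on the coordinates -/
def sdC (p : ℕ → ℕ → ℕ → ℕ → ℕ → ℕ → ℕ → Bool) : ℕ :=
  sdS fun a => sdS fun b => sdS fun c => sdS fun d => sdS fun e => sdS fun f => sdS fun g => bif p a b c d e f g then 1 else 0

theorem sdCard (P : T7 → Prop) [DecidablePred P] (p : ℕ → ℕ → ℕ → ℕ → ℕ → ℕ → ℕ → Bool)
    (h : ∀ a : T7, P a ↔ p a.1.val a.2.1.val a.2.2.1.val a.2.2.2.1.val a.2.2.2.2.1.val a.2.2.2.2.2.1.val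
      a.2.2.2.2.2.2.val = true) : (Finset.univ.filter P).card = sdC p := by
  rw [Finset.card_filter]
  have h1 : ∀ a : T7, (if P a then 1 else 0 : ℕ) = bif p a.1.val a.2.1.val a.2.2.1.val a.2.2.2.1.val a.2.2.2.2.1.val
      a.2.2.2.2.2.1.val a.2.2.2.2.2.2.val then 1 else 0 := by
    intro a
    rw [Bool.cond_eq_ite]
    exact if_congr (h a) rfl rfl
  rw [Finset.sum_congr rfl fun a _ => h1 a]
  simp only [Fintype.sum_prod_type]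
  unfold sdC
  rw [← sdSum]; refine Finset.sum_congr rfl fun a _ => ?_
  rw [← sdSum]; refine Finset.sum_congr rfl fun b _ => ?_
  rw [← sdSum]; refine Finset.sum_congr rfl fun c _ => ?_
  rw [← sdSum]; refine Finset.sum_congr rfl fun d _ => ?_
  rw [← sdSum]; refine Finset.sum_congr rfl fun e _ => ?_
  rw [← sdSum]; refine Finset.sum_congr rfl fun f _ => ?_
  rw [← sdSum]

theorem sdDot (a b c d e f g a' b' c' d' e' f' g' : ZMod 3) : vec a b c d e f g ⬝ᵥ vec a' b' c' d' e' f' g' =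
    a * a' + b * b' + c * c' + d * d' + e * e' + f * f' + g * g' := by
  simp [vec, dotProduct, Fin.sum_univ_three]
  ring

theorem sdMul (a b c d e f g v : I → ZMod 3) : mat a b c d e f g *ᵥ v =
    vec (a ⬝ᵥ v) (b ⬝ᵥ v) (c ⬝ᵥ v) (d ⬝ᵥ v) (e ⬝ᵥ v) (f ⬝ᵥ v) (g ⬝ᵥ v) := by
  funext i
  rcases i with ⟨⟩ | i | i
  · rfl
  · fin_cases i <;> rfl
  · fin_cases i <;> rfl

theorem sdCast (n k : ℕ) (hk : k < 3) : ((n : ℕ) : ZMod 3) = ((k : ℕ) : ZMod 3) ↔ (n % 3 == k) = true := by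
  rw [ZMod.natCast_eq_natCast_iff', beq_iff_eq, Nat.mod_eq_of_lt hk]

/-- the Gram matrix -/
def Gm : M7 := mat (vec 2 0 0 0 0 0 0) (vec 0 0 0 0 1 0 0) (vec 0 0 0 0 0 1 0) (vec 0 0 0 0 0 0 1)
  (vec 0 1 0 0 0 0 0) (vec 0 0 1 0 0 0 0) (vec 0 0 0 1 0 0 0)

/-- an element of order 7 -/
def a7 : M7 := mat (vec 1 0 0 2 0 0 0) (vec 0 1 1 0 0 0 0) (vec 1 0 0 1 0 0 2) (vec 0 2 2 0 2 1 0) (vec 0 0 1 0 1 0 0) (vec 0 0 0 2 0 0 0) (vec 0 0 1 0 0 0 0)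

/-- its inverse -/
def a7i : M7 := mat (vec 1 0 0 0 0 2 0) (vec 0 1 0 0 0 0 2) (vec 0 0 0 0 0 0 1) (vec 0 0 0 0 0 2 0) (vec 0 0 0 0 1 0 2) (vec 0 1 0 1 1 0 2) (vec 1 0 2 0 0 1 0)

/-- the cyclic basis -/
def a7E : M7 := mat (vec 0 0 1 2 1 2 0) (vec 0 0 0 2 2 0 0) (vec 0 0 2 0 1 0 0) (vec 0 2 2 1 2 2 0) (vec 1 1 1 0 0 1 1) (vec 0 0 1 1 2 1 1) (vec 0 0 0 2 0 1 0)

/-- the inverse -/
def a7Ei : M7 := mat (vec 0 2 2 1 1 2 1) (vec 1 1 2 2 0 0 0) (vec 1 1 0 0 0 0 1) (vec 2 1 2 0 0 0 2) (vec 1 1 1 0 0 0 1) (vec 2 1 2 0 0 0 0) (vec 2 1 0 0 0 1 1)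

/-- the form `(x, z ^ 1 y)` -/
def a7M1 : M7 := mat (vec 2 0 0 1 0 0 0) (vec 0 0 1 0 1 0 0) (vec 0 0 0 2 0 0 0) (vec 0 0 1 0 0 0 0) (vec 0 1 1 0 0 0 0) (vec 1 0 0 1 0 0 2) (vec 0 2 2 0 2 1 0)

/-- the form `(x, z ^ 2 y)` -/
def a7M2 : M7 := mat (vec 2 2 2 1 2 1 0) (vec 1 0 1 1 1 0 2) (vec 0 1 1 0 1 2 0) (vec 1 0 0 1 0 0 2) (vec 1 1 1 1 0 0 2) (vec 1 2 1 2 2 1 0) (vec 2 2 1 1 2 0 1)

/-- the form `(x, z ^ 3 y)` -/
def a7M3 : M7 := mat (vec 1 1 0 2 1 1 1) (vec 2 2 2 0 0 1 2) (vec 1 1 2 2 1 0 2) (vec 1 2 1 2 2 1 0) (vec 2 0 2 0 2 1 2) (vec 2 0 2 2 0 2 2) (vec 0 1 1 2 1 1 2)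

/-- the power 2 -/
def a7P2 : M7 := mat (vec 1 1 1 2 1 2 0) (vec 1 1 1 1 0 0 2) (vec 1 2 1 2 2 1 0) (vec 2 2 1 1 2 0 1) (vec 1 0 1 1 1 0 2) (vec 0 1 1 0 1 2 0) (vec 1 0 0 1 0 0 2)

/-- the power 4 -/
def a7P4 : M7 := mat (vec 2 1 2 2 1 1 0) (vec 1 0 1 2 2 0 1) (vec 1 1 0 1 1 2 1) (vec 1 2 2 0 2 2 2) (vec 1 2 1 2 0 0 1) (vec 0 2 2 1 2 2 1) (vec 2 0 2 2 0 2 2)

/-- the power 6 -/
def a7P6 : M7 := mat (vec 1 0 0 0 0 2 0) (vec 0 1 0 0 0 0 2) (vec 0 0 0 0 0 0 1) (vec 0 0 0 0 0 2 0) (vec 0 0 0 0 1 0 2) (vec 0 1 0 1 1 0 2) (vec 1 0 2 0 0 1 0)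

theorem a7_inv : a7 * a7i = 1 := by decide +kernel

theorem a7_inv' : a7i * a7 = 1 := by decide +kernel

theorem a7_gram : a7ᵀ * (Gm * a7) = Gm := by decide +kernel

theorem a7_E : a7E * a7Ei = 1 := by decide +kernel

theorem a7_M1 : Gm * a7 = a7M1 := by decide +kernel

theorem a7_M2 : a7M1 * a7 = a7M2 := by decide +kernel

theorem a7_M3 : a7M2 * a7 = a7M3 := by decide +kernel

theorem a7_P2 : a7 * a7 = a7P2 := by decide +kernel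

theorem a7_P4 : a7P2 * a7P2 = a7P4 := by decide +kernel

theorem a7_P6 : a7P4 * a7P2 = a7P6 := by decide +kernel

theorem a7_P7 : a7P6 * a7 = 1 := by decide +kernel

theorem a7_pow : a7 ^ 7 = 1 := by
  have h2 : a7 ^ 2 = a7P2 := by rw [pow_two, a7_P2]
  have h4 : a7 ^ 4 = a7P4 := by rw [show (4 : ℕ) = 2 + 2 from rfl, pow_add, h2, a7_P4]
  have h6 : a7 ^ 6 = a7P6 := by rw [show (6 : ℕ) = 4 + 2 from rfl, pow_add, h4, h2, a7_P6]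
  rw [show (7 : ℕ) = 6 + 1 from rfl, pow_add, h6, pow_one, a7_P7]

/-- the cyclic vector -/
def a7v : I → ZMod 3 := vec 0 0 0 0 1 0 0

/-- the vectors with the same products -/
def a7T : Finset T7 := Finset.univ.filter fun a =>
  vec7 a ⬝ᵥ (Gm *ᵥ vec7 a) = 0 ∧ vec7 a ⬝ᵥ (a7M1 *ᵥ vec7 a) = 0 ∧
    vec7 a ⬝ᵥ (a7M2 *ᵥ vec7 a) = 0 ∧ vec7 a ⬝ᵥ (a7M3 *ᵥ vec7 a) = 2

/-- the form `Gm` -/
def sdN0 (a b c d e f g : ℕ) : ℕ :=
  2 * a * a + 2 * b * e + 2 * c * f + 2 * d * g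

theorem sdN0_eq (x : T7) : vec7 x ⬝ᵥ (Gm *ᵥ vec7 x) =
    ((sdN0 x.1.val x.2.1.val x.2.2.1.val x.2.2.2.1.val x.2.2.2.2.1.val x.2.2.2.2.2.1.val x.2.2.2.2.2.2.val : ℕ) : ZMod 3) := by
  obtain ⟨a, b, c, d, e, f, g⟩ := x
  simp only [sdN0, Gm, vec7, sdMul, sdDot, Nat.cast_add, Nat.cast_mul, ZMod.natCast_zmod_val, Nat.cast_ofNat]
  ring

/-- the form `a7M1` -/
def a7N1 (a b c d e f g : ℕ) : ℕ :=
  2 * a * a + a * d + a * f + b * c + 2 * b * e + 2 * b * g + 3 * c * d + c * e + 2 * c * g + d * f + 2 * e * g + 3 * f * g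

theorem a7N1_eq (x : T7) : vec7 x ⬝ᵥ (a7M1 *ᵥ vec7 x) =
    ((a7N1 x.1.val x.2.1.val x.2.2.1.val x.2.2.2.1.val x.2.2.2.2.1.val x.2.2.2.2.2.1.val x.2.2.2.2.2.2.val : ℕ) : ZMod 3) := by
  obtain ⟨a, b, c, d, e, f, g⟩ := x
  simp only [a7N1, a7M1, vec7, sdMul, sdDot, Nat.cast_add, Nat.cast_mul, ZMod.natCast_zmod_val, Nat.cast_ofNat]
  ring

/-- the form `a7M2` -/
def a7N2 (a b c d e f g : ℕ) : ℕ :=
  2 * a * a + 3 * a * b + 2 * a * c + 2 * a * d + 3 * a * e + 2 * a * f + 2 * a * g + 2 * b * c + b * d + 2 * b * e + 2 * b * f + 4 * b * g + c * c + 2 * c * e + 3 * c * f + c * g + d * d + d * e + 2 * d * f + 3 * d * g + 2 * e * f + 4 * e * g + f * f + g * g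

theorem a7N2_eq (x : T7) : vec7 x ⬝ᵥ (a7M2 *ᵥ vec7 x) =
    ((a7N2 x.1.val x.2.1.val x.2.2.1.val x.2.2.2.1.val x.2.2.2.2.1.val x.2.2.2.2.2.1.val x.2.2.2.2.2.2.val : ℕ) : ZMod 3) := by
  obtain ⟨a, b, c, d, e, f, g⟩ := x
  simp only [a7N2, a7M2, vec7, sdMul, sdDot, Nat.cast_add, Nat.cast_mul, ZMod.natCast_zmod_val, Nat.cast_ofNat]
  ring

/-- the form `a7M3` -/
def a7N3 (a b c d e f g : ℕ) : ℕ :=
  a * a + 3 * a * b + a * c + 3 * a * d + 3 * a * e + 3 * a * f + a * g + 2 * b * b + 3 * b * c + 2 * b * d + b * f + 3 * b * g + 2 * c * c + 3 * c * d + 3 * c * e + 2 * c * f + 3 * c * g + 2 * d * d + 2 * d * e + 3 * d * f + 2 * d * g + 2 * e * e + e * f + 3 * e * g + 2 * f * f + 3 * f * g + 2 * g * g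

theorem a7N3_eq (x : T7) : vec7 x ⬝ᵥ (a7M3 *ᵥ vec7 x) =
    ((a7N3 x.1.val x.2.1.val x.2.2.1.val x.2.2.2.1.val x.2.2.2.2.1.val x.2.2.2.2.2.1.val x.2.2.2.2.2.2.val : ℕ) : ZMod 3) := by
  obtain ⟨a, b, c, d, e, f, g⟩ := x
  simp only [a7N3, a7M3, vec7, sdMul, sdDot, Nat.cast_add, Nat.cast_mul, ZMod.natCast_zmod_val, Nat.cast_ofNat]
  ring

/-- the four conditions -/
def a7Test (a b c d e f g : ℕ) : Bool :=
  (sdN0 a b c d e f g % 3 == 0) && ((a7N1 a b c d e f g % 3 == 0) &&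
    ((a7N2 a b c d e f g % 3 == 0) && (a7N3 a b c d e f g % 3 == 2)))

theorem a7_count : sdC a7Test = 56 := by decide +kernel

theorem a7_card : a7T.card = 56 := by
  rw [← a7_count]
  refine sdCard _ _ fun x => ?_
  rw [sdN0_eq, a7N1_eq, a7N2_eq, a7N3_eq]
  simp only [a7Test, Bool.and_eq_true, ← sdCast _ _ (by norm_num : 0 < 3), ← sdCast _ _ (by norm_num : 2 < 3)]
  push_cast
  rfl

theorem a7_v0 : a7v ⬝ᵥ (Gm *ᵥ a7v) = 0 := by decide +kernel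

theorem a7_v1 : a7v ⬝ᵥ (a7M1 *ᵥ a7v) = 0 := by decide +kernel

theorem a7_v2 : a7v ⬝ᵥ (a7M2 *ᵥ a7v) = 0 := by decide +kernel

theorem a7_v3 : a7v ⬝ᵥ (a7M3 *ᵥ a7v) = 2 := by decide +kernel

theorem a7_col0 : (fun i => a7E i (Sum.inl ())) = a7v := by decide +kernel

theorem a7_col1 : (fun i => a7E i (Sum.inr (Sum.inl 0))) = a7 *ᵥ (fun i => a7E i (Sum.inl ())) := by decide +kernel

theorem a7_col2 : (fun i => a7E i (Sum.inr (Sum.inl 1))) = a7 *ᵥ (fun i => a7E i (Sum.inr (Sum.inl 0))) := by decide +kernel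

theorem a7_col3 : (fun i => a7E i (Sum.inr (Sum.inl 2))) = a7 *ᵥ (fun i => a7E i (Sum.inr (Sum.inl 1))) := by decide +kernel

theorem a7_col4 : (fun i => a7E i (Sum.inr (Sum.inr 0))) = a7 *ᵥ (fun i => a7E i (Sum.inr (Sum.inl 2))) := by decide +kernel

theorem a7_col5 : (fun i => a7E i (Sum.inr (Sum.inr 1))) = a7 *ᵥ (fun i => a7E i (Sum.inr (Sum.inr 0))) := by decide +kernel

theorem a7_col6 : (fun i => a7E i (Sum.inr (Sum.inr 2))) = a7 *ᵥ (fun i => a7E i (Sum.inr (Sum.inr 1))) := by decide +kernel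

theorem a7_col (j : I) : ∃ n : ℕ, (fun i => a7E i j) = a7 ^ n *ᵥ a7v := by
  have h0 : (fun i => a7E i (Sum.inl ())) = a7 ^ 0 *ᵥ a7v := by rw [pow_zero, one_mulVec, a7_col0]
  have h1 : (fun i => a7E i (Sum.inr (Sum.inl 0))) = a7 ^ 1 *ᵥ a7v := by
    rw [a7_col1, h0, mulVec_mulVec, ← pow_succ']
  have h2 : (fun i => a7E i (Sum.inr (Sum.inl 1))) = a7 ^ 2 *ᵥ a7v := by
    rw [a7_col2, h1, mulVec_mulVec, ← pow_succ']
  have h3 : (fun i => a7E i (Sum.inr (Sum.inl 2))) = a7 ^ 3 *ᵥ a7v := by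
    rw [a7_col3, h2, mulVec_mulVec, ← pow_succ']
  have h4 : (fun i => a7E i (Sum.inr (Sum.inr 0))) = a7 ^ 4 *ᵥ a7v := by
    rw [a7_col4, h3, mulVec_mulVec, ← pow_succ']
  have h5 : (fun i => a7E i (Sum.inr (Sum.inr 1))) = a7 ^ 5 *ᵥ a7v := by
    rw [a7_col5, h4, mulVec_mulVec, ← pow_succ']
  have h6 : (fun i => a7E i (Sum.inr (Sum.inr 2))) = a7 ^ 6 *ᵥ a7v := by
    rw [a7_col6, h5, mulVec_mulVec, ← pow_succ']
  rcases j with ⟨⟩ | j | j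
  · exact ⟨0, h0⟩
  · fin_cases j
    · exact ⟨1, h1⟩
    · exact ⟨2, h2⟩
    · exact ⟨3, h3⟩
  · fin_cases j
    · exact ⟨4, h4⟩
    · exact ⟨5, h5⟩
    · exact ⟨6, h6⟩

/-- an element of order 13 -/
def a13 : M7 := mat (vec 1 0 0 0 0 0 0) (vec 0 0 0 1 0 0 0) (vec 0 1 0 2 0 0 0) (vec 0 0 1 2 0 0 0) (vec 0 0 0 0 1 1 1) (vec 0 0 0 0 1 0 0) (vec 0 0 0 0 0 1 0)

/-- its inverse -/
def a13i : M7 := mat (vec 1 0 0 0 0 0 0) (vec 0 1 1 0 0 0 0) (vec 0 1 0 1 0 0 0) (vec 0 1 0 0 0 0 0) (vec 0 0 0 0 0 1 0) (vec 0 0 0 0 0 0 1) (vec 0 0 0 0 1 2 2)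

/-- the cyclic basis -/
def a13E : M7 := mat (vec 1 1 1 1 1 1 1) (vec 0 1 2 0 2 0 1) (vec 0 2 2 2 1 2 2) (vec 1 2 0 2 0 1 1) (vec 0 1 2 0 0 2 2) (vec 1 0 1 2 0 0 2) (vec 0 1 0 1 2 0 0)

/-- the inverse -/
def a13Ei : M7 := mat (vec 2 2 0 0 2 2 0) (vec 0 0 2 0 1 0 2) (vec 1 0 0 2 0 0 1) (vec 1 2 0 0 1 2 2) (vec 1 2 2 0 2 2 0) (vec 0 0 2 2 2 1 2) (vec 2 0 0 2 1 2 2)

/-- the form `(x, z ^ 1 y)` -/
def a13M1 : M7 := mat (vec 2 0 0 0 0 0 0) (vec 0 0 0 0 1 1 1) (vec 0 0 0 0 1 0 0) (vec 0 0 0 0 0 1 0) (vec 0 0 0 1 0 0 0) (vec 0 1 0 2 0 0 0) (vec 0 0 1 2 0 0 0)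

/-- the form `(x, z ^ 2 y)` -/
def a13M2 : M7 := mat (vec 2 0 0 0 0 0 0) (vec 0 0 0 0 2 2 1) (vec 0 0 0 0 1 1 1) (vec 0 0 0 0 1 0 0) (vec 0 0 1 2 0 0 0) (vec 0 0 2 2 0 0 0) (vec 0 1 2 0 0 0 0)

/-- the form `(x, z ^ 3 y)` -/
def a13M3 : M7 := mat (vec 2 0 0 0 0 0 0) (vec 0 0 0 0 1 0 2) (vec 0 0 0 0 2 2 1) (vec 0 0 0 0 1 1 1) (vec 0 1 2 0 0 0 0) (vec 0 2 2 2 0 0 0) (vec 0 2 0 2 0 0 0)

/-- the power 2 -/
def a13P2 : M7 := mat (vec 1 0 0 0 0 0 0) (vec 0 0 1 2 0 0 0) (vec 0 0 2 2 0 0 0) (vec 0 1 2 0 0 0 0) (vec 0 0 0 0 2 2 1) (vec 0 0 0 0 1 1 1) (vec 0 0 0 0 1 0 0)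

/-- the power 4 -/
def a13P4 : M7 := mat (vec 1 0 0 0 0 0 0) (vec 0 2 0 2 0 0 0) (vec 0 2 2 1 0 0 0) (vec 0 0 2 0 0 0 0) (vec 0 0 0 0 1 0 1) (vec 0 0 0 0 1 0 2) (vec 0 0 0 0 2 2 1)

/-- the power 8 -/
def a13P8 : M7 := mat (vec 1 0 0 0 0 0 0) (vec 0 1 1 1 0 0 0) (vec 0 2 0 0 0 0 0) (vec 0 1 1 2 0 0 0) (vec 0 0 0 0 0 2 2) (vec 0 0 0 0 2 1 0) (vec 0 0 0 0 0 2 1)

/-- the power 12 -/
def a13P12 : M7 := mat (vec 1 0 0 0 0 0 0) (vec 0 1 1 0 0 0 0) (vec 0 1 0 1 0 0 0) (vec 0 1 0 0 0 0 0) (vec 0 0 0 0 0 1 0) (vec 0 0 0 0 0 0 1) (vec 0 0 0 0 1 2 2)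

theorem a13_inv : a13 * a13i = 1 := by decide +kernel

theorem a13_inv' : a13i * a13 = 1 := by decide +kernel

theorem a13_gram : a13ᵀ * (Gm * a13) = Gm := by decide +kernel

theorem a13_E : a13E * a13Ei = 1 := by decide +kernel

theorem a13_M1 : Gm * a13 = a13M1 := by decide +kernel

theorem a13_M2 : a13M1 * a13 = a13M2 := by decide +kernel

theorem a13_M3 : a13M2 * a13 = a13M3 := by decide +kernel

theorem a13_P2 : a13 * a13 = a13P2 := by decide +kernel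

theorem a13_P4 : a13P2 * a13P2 = a13P4 := by decide +kernel

theorem a13_P8 : a13P4 * a13P4 = a13P8 := by decide +kernel

theorem a13_P12 : a13P8 * a13P4 = a13P12 := by decide +kernel

theorem a13_P13 : a13P12 * a13 = 1 := by decide +kernel

theorem a13_pow : a13 ^ 13 = 1 := by
  have h2 : a13 ^ 2 = a13P2 := by rw [pow_two, a13_P2]
  have h4 : a13 ^ 4 = a13P4 := by rw [show (4 : ℕ) = 2 + 2 from rfl, pow_add, h2, a13_P4]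
  have h8 : a13 ^ 8 = a13P8 := by rw [show (8 : ℕ) = 4 + 4 from rfl, pow_add, h4, a13_P8]
  have h12 : a13 ^ 12 = a13P12 := by rw [show (12 : ℕ) = 8 + 4 from rfl, pow_add, h8, h4, a13_P12]
  rw [show (13 : ℕ) = 12 + 1 from rfl, pow_add, h12, pow_one, a13_P13]

/-- the cyclic vector -/
def a13v : I → ZMod 3 := vec 1 0 0 1 0 1 0

/-- the vectors with the same products -/
def a13T : Finset T7 := Finset.univ.filter fun a =>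
  vec7 a ⬝ᵥ (Gm *ᵥ vec7 a) = 2 ∧ vec7 a ⬝ᵥ (a13M1 *ᵥ vec7 a) = 2 ∧
    vec7 a ⬝ᵥ (a13M2 *ᵥ vec7 a) = 1 ∧ vec7 a ⬝ᵥ (a13M3 *ᵥ vec7 a) = 2

/-- the form `a13M1` -/
def a13N1 (a b c d e f g : ℕ) : ℕ :=
  2 * a * a + b * e + 2 * b * f + b * g + c * e + c * g + d * e + 3 * d * f + 2 * d * g

theorem a13N1_eq (x : T7) : vec7 x ⬝ᵥ (a13M1 *ᵥ vec7 x) =
    ((a13N1 x.1.val x.2.1.val x.2.2.1.val x.2.2.2.1.val x.2.2.2.2.1.val x.2.2.2.2.2.1.val x.2.2.2.2.2.2.val : ℕ) : ZMod 3) := by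
  obtain ⟨a, b, c, d, e, f, g⟩ := x
  simp only [a13N1, a13M1, vec7, sdMul, sdDot, Nat.cast_add, Nat.cast_mul, ZMod.natCast_zmod_val, Nat.cast_ofNat]
  ring

/-- the form `a13M2` -/
def a13N2 (a b c d e f g : ℕ) : ℕ :=
  2 * a * a + 2 * b * e + 2 * b * f + 2 * b * g + 2 * c * e + 3 * c * f + 3 * c * g + 3 * d * e + 2 * d * f

theorem a13N2_eq (x : T7) : vec7 x ⬝ᵥ (a13M2 *ᵥ vec7 x) =
    ((a13N2 x.1.val x.2.1.val x.2.2.1.val x.2.2.2.1.val x.2.2.2.2.1.val x.2.2.2.2.2.1.val x.2.2.2.2.2.2.val : ℕ) : ZMod 3) := by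
  obtain ⟨a, b, c, d, e, f, g⟩ := x
  simp only [a13N2, a13M2, vec7, sdMul, sdDot, Nat.cast_add, Nat.cast_mul, ZMod.natCast_zmod_val, Nat.cast_ofNat]
  ring

/-- the form `a13M3` -/
def a13N3 (a b c d e f g : ℕ) : ℕ :=
  2 * a * a + 2 * b * e + 2 * b * f + 4 * b * g + 4 * c * e + 4 * c * f + c * g + d * e + 3 * d * f + 3 * d * g

theorem a13N3_eq (x : T7) : vec7 x ⬝ᵥ (a13M3 *ᵥ vec7 x) =
    ((a13N3 x.1.val x.2.1.val x.2.2.1.val x.2.2.2.1.val x.2.2.2.2.1.val x.2.2.2.2.2.1.val x.2.2.2.2.2.2.val : ℕ) : ZMod 3) := by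
  obtain ⟨a, b, c, d, e, f, g⟩ := x
  simp only [a13N3, a13M3, vec7, sdMul, sdDot, Nat.cast_add, Nat.cast_mul, ZMod.natCast_zmod_val, Nat.cast_ofNat]
  ring

/-- the four conditions -/
def a13Test (a b c d e f g : ℕ) : Bool :=
  (sdN0 a b c d e f g % 3 == 2) && ((a13N1 a b c d e f g % 3 == 2) &&
    ((a13N2 a b c d e f g % 3 == 1) && (a13N3 a b c d e f g % 3 == 2)))

theorem a13_count : sdC a13Test = 52 := by decide +kernel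

theorem a13_card : a13T.card = 52 := by
  rw [← a13_count]
  refine sdCard _ _ fun x => ?_
  rw [sdN0_eq, a13N1_eq, a13N2_eq, a13N3_eq]
  simp only [a13Test, Bool.and_eq_true, ← sdCast _ _ (by norm_num : 2 < 3), ← sdCast _ _ (by norm_num : 1 < 3)]
  push_cast
  rfl

theorem a13_v0 : a13v ⬝ᵥ (Gm *ᵥ a13v) = 2 := by decide +kernel

theorem a13_v1 : a13v ⬝ᵥ (a13M1 *ᵥ a13v) = 2 := by decide +kernel

theorem a13_v2 : a13v ⬝ᵥ (a13M2 *ᵥ a13v) = 1 := by decide +kernel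

theorem a13_v3 : a13v ⬝ᵥ (a13M3 *ᵥ a13v) = 2 := by decide +kernel

theorem a13_col0 : (fun i => a13E i (Sum.inl ())) = a13v := by decide +kernel

theorem a13_col1 : (fun i => a13E i (Sum.inr (Sum.inl 0))) = a13 *ᵥ (fun i => a13E i (Sum.inl ())) := by decide +kernel

theorem a13_col2 : (fun i => a13E i (Sum.inr (Sum.inl 1))) = a13 *ᵥ (fun i => a13E i (Sum.inr (Sum.inl 0))) := by decide +kernel

theorem a13_col3 : (fun i => a13E i (Sum.inr (Sum.inl 2))) = a13 *ᵥ (fun i => a13E i (Sum.inr (Sum.inl 1))) := by decide +kernel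

theorem a13_col4 : (fun i => a13E i (Sum.inr (Sum.inr 0))) = a13 *ᵥ (fun i => a13E i (Sum.inr (Sum.inl 2))) := by decide +kernel

theorem a13_col5 : (fun i => a13E i (Sum.inr (Sum.inr 1))) = a13 *ᵥ (fun i => a13E i (Sum.inr (Sum.inr 0))) := by decide +kernel

theorem a13_col6 : (fun i => a13E i (Sum.inr (Sum.inr 2))) = a13 *ᵥ (fun i => a13E i (Sum.inr (Sum.inr 1))) := by decide +kernel

theorem a13_col (j : I) : ∃ n : ℕ, (fun i => a13E i j) = a13 ^ n *ᵥ a13v := by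
  have h0 : (fun i => a13E i (Sum.inl ())) = a13 ^ 0 *ᵥ a13v := by rw [pow_zero, one_mulVec, a13_col0]
  have h1 : (fun i => a13E i (Sum.inr (Sum.inl 0))) = a13 ^ 1 *ᵥ a13v := by
    rw [a13_col1, h0, mulVec_mulVec, ← pow_succ']
  have h2 : (fun i => a13E i (Sum.inr (Sum.inl 1))) = a13 ^ 2 *ᵥ a13v := by
    rw [a13_col2, h1, mulVec_mulVec, ← pow_succ']
  have h3 : (fun i => a13E i (Sum.inr (Sum.inl 2))) = a13 ^ 3 *ᵥ a13v := by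
    rw [a13_col3, h2, mulVec_mulVec, ← pow_succ']
  have h4 : (fun i => a13E i (Sum.inr (Sum.inr 0))) = a13 ^ 4 *ᵥ a13v := by
    rw [a13_col4, h3, mulVec_mulVec, ← pow_succ']
  have h5 : (fun i => a13E i (Sum.inr (Sum.inr 1))) = a13 ^ 5 *ᵥ a13v := by
    rw [a13_col5, h4, mulVec_mulVec, ← pow_succ']
  have h6 : (fun i => a13E i (Sum.inr (Sum.inr 2))) = a13 ^ 6 *ᵥ a13v := by
    rw [a13_col6, h5, mulVec_mulVec, ← pow_succ']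
  rcases j with ⟨⟩ | j | j
  · exact ⟨0, h0⟩
  · fin_cases j
    · exact ⟨1, h1⟩
    · exact ⟨2, h2⟩
    · exact ⟨3, h3⟩
  · fin_cases j
    · exact ⟨4, h4⟩
    · exact ⟨5, h5⟩
    · exact ⟨6, h6⟩

/-- an isometry of order 4 and spinor norm `-1` commuting with `a7` -/
def ff : M7 := mat (vec 0 1 0 0 1 0 0) (vec 1 2 0 0 1 0 0) (vec 0 0 0 2 0 0 0) (vec 0 0 1 0 0 0 0) (vec 1 1 0 0 2 0 0) (vec 0 0 0 0 0 0 2) (vec 0 0 0 0 0 1 0)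

/-- the inverse -/
def ffi : M7 := mat (vec 0 2 0 0 2 0 0) (vec 2 2 0 0 1 0 0) (vec 0 0 0 1 0 0 0) (vec 0 0 2 0 0 0 0) (vec 2 1 0 0 2 0 0) (vec 0 0 0 0 0 0 1) (vec 0 0 0 0 0 2 0)

/-- a vector -/
def fv0 : I → ZMod 3 := vec 1 0 0 0 0 0 0

theorem fv0_Q : fv0 (.inl ()) ^ 2 + ∑ i : Fin 3, fv0 (.inr (.inl i)) * fv0 (.inr (.inr i)) = 1 := by decide +kernel

/-- the matrix of the reflection -/
def fR0 : M7 := mat (vec 2 0 0 0 0 0 0) (vec 0 1 0 0 0 0 0) (vec 0 0 1 0 0 0 0) (vec 0 0 0 1 0 0 0) (vec 0 0 0 0 1 0 0) (vec 0 0 0 0 0 1 0) (vec 0 0 0 0 0 0 1)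

theorem fR0_eq : 1 - (1 : ZMod 3) • vecMulVec fv0 (Gm *ᵥ fv0) = fR0 := by decide +kernel

/-- a vector -/
def fv1 : I → ZMod 3 := vec 1 2 0 0 2 0 0

theorem fv1_Q : fv1 (.inl ()) ^ 2 + ∑ i : Fin 3, fv1 (.inr (.inl i)) * fv1 (.inr (.inr i)) = -1 := by decide +kernel

/-- the matrix of the reflection -/
def fR1 : M7 := mat (vec 0 2 0 0 2 0 0) (vec 1 2 0 0 1 0 0) (vec 0 0 1 0 0 0 0) (vec 0 0 0 1 0 0 0) (vec 1 1 0 0 2 0 0) (vec 0 0 0 0 0 1 0) (vec 0 0 0 0 0 0 1)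

theorem fR1_eq : 1 - (-1 : ZMod 3) • vecMulVec fv1 (Gm *ᵥ fv1) = fR1 := by decide +kernel

/-- a partial product -/
def fP1 : M7 := mat (vec 0 1 0 0 1 0 0) (vec 1 2 0 0 1 0 0) (vec 0 0 1 0 0 0 0) (vec 0 0 0 1 0 0 0) (vec 1 1 0 0 2 0 0) (vec 0 0 0 0 0 1 0) (vec 0 0 0 0 0 0 1)

theorem fP1_eq : fR0 * fR1 = fP1 := by decide +kernel

/-- a vector -/
def fv2 : I → ZMod 3 := vec 0 0 1 0 0 1 0

theorem fv2_Q : fv2 (.inl ()) ^ 2 + ∑ i : Fin 3, fv2 (.inr (.inl i)) * fv2 (.inr (.inr i)) = 1 := by decide +kernel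

/-- the matrix of the reflection -/
def fR2 : M7 := mat (vec 1 0 0 0 0 0 0) (vec 0 1 0 0 0 0 0) (vec 0 0 0 0 0 2 0) (vec 0 0 0 1 0 0 0) (vec 0 0 0 0 1 0 0) (vec 0 0 2 0 0 0 0) (vec 0 0 0 0 0 0 1)

theorem fR2_eq : 1 - (1 : ZMod 3) • vecMulVec fv2 (Gm *ᵥ fv2) = fR2 := by decide +kernel

/-- a partial product -/
def fP2 : M7 := mat (vec 0 1 0 0 1 0 0) (vec 1 2 0 0 1 0 0) (vec 0 0 0 0 0 2 0) (vec 0 0 0 1 0 0 0) (vec 1 1 0 0 2 0 0) (vec 0 0 2 0 0 0 0) (vec 0 0 0 0 0 0 1)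

theorem fP2_eq : fP1 * fR2 = fP2 := by decide +kernel

/-- a vector -/
def fv3 : I → ZMod 3 := vec 0 0 1 2 0 1 2

theorem fv3_Q : fv3 (.inl ()) ^ 2 + ∑ i : Fin 3, fv3 (.inr (.inl i)) * fv3 (.inr (.inr i)) = -1 := by decide +kernel

/-- the matrix of the reflection -/
def fR3 : M7 := mat (vec 1 0 0 0 0 0 0) (vec 0 1 0 0 0 0 0) (vec 0 0 2 2 0 1 2) (vec 0 0 2 2 0 2 1) (vec 0 0 0 0 1 0 0) (vec 0 0 1 2 0 2 2) (vec 0 0 2 1 0 2 2)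

theorem fR3_eq : 1 - (-1 : ZMod 3) • vecMulVec fv3 (Gm *ᵥ fv3) = fR3 := by decide +kernel

/-- a partial product -/
def fP3 : M7 := mat (vec 0 1 0 0 1 0 0) (vec 1 2 0 0 1 0 0) (vec 0 0 2 1 0 1 1) (vec 0 0 2 2 0 2 1) (vec 1 1 0 0 2 0 0) (vec 0 0 1 1 0 2 1) (vec 0 0 2 1 0 2 2)

theorem fP3_eq : fP2 * fR3 = fP3 := by decide +kernel

/-- a vector -/
def fv4 : I → ZMod 3 := vec 0 0 1 0 0 2 0

theorem fv4_Q : fv4 (.inl ()) ^ 2 + ∑ i : Fin 3, fv4 (.inr (.inl i)) * fv4 (.inr (.inr i)) = -1 := by decide +kernel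

/-- the matrix of the reflection -/
def fR4 : M7 := mat (vec 1 0 0 0 0 0 0) (vec 0 1 0 0 0 0 0) (vec 0 0 0 0 0 1 0) (vec 0 0 0 1 0 0 0) (vec 0 0 0 0 1 0 0) (vec 0 0 1 0 0 0 0) (vec 0 0 0 0 0 0 1)

theorem fR4_eq : 1 - (-1 : ZMod 3) • vecMulVec fv4 (Gm *ᵥ fv4) = fR4 := by decide +kernel

/-- a partial product -/
def fP4 : M7 := mat (vec 0 1 0 0 1 0 0) (vec 1 2 0 0 1 0 0) (vec 0 0 1 1 0 2 1) (vec 0 0 2 2 0 2 1) (vec 1 1 0 0 2 0 0) (vec 0 0 2 1 0 1 1) (vec 0 0 2 1 0 2 2)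

theorem fP4_eq : fP3 * fR4 = fP4 := by decide +kernel

/-- a vector -/
def fv5 : I → ZMod 3 := vec 0 0 1 2 0 2 1

theorem fv5_Q : fv5 (.inl ()) ^ 2 + ∑ i : Fin 3, fv5 (.inr (.inl i)) * fv5 (.inr (.inr i)) = 1 := by decide +kernel

/-- the matrix of the reflection -/
def fR5 : M7 := mat (vec 1 0 0 0 0 0 0) (vec 0 1 0 0 0 0 0) (vec 0 0 2 2 0 2 1) (vec 0 0 2 2 0 1 2) (vec 0 0 0 0 1 0 0) (vec 0 0 2 1 0 2 2) (vec 0 0 1 2 0 2 2)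

theorem fR5_eq : 1 - (1 : ZMod 3) • vecMulVec fv5 (Gm *ᵥ fv5) = fR5 := by decide +kernel

theorem ff_eq : fP4 * fR5 = ff := by decide +kernel

theorem ff_inv : ff * ffi = 1 := by decide +kernel

theorem ff_inv' : ffi * ff = 1 := by decide +kernel

theorem ff_comm : ff * a7 = a7 * ff := by decide +kernel

theorem ff_gram : ffᵀ * (Gm * ff) = Gm := by decide +kernel

end Cfsg.Agent.H328.OZ.SevenData
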